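import Groth.Agent.Lib.GrpdFin19.Nbhd
import Mathlib

/-!
# All arrows between the finite parts, when `j` is universally closed
-/

set_option autoImplicit false
set_option linter.style.haveILetI false
set_option backward.isDefEq.respectTransparency.types false
set_option maxHeartbeats 1000000

universe u

open CategoryTheory CategoryTheory.Limits AlgebraicGeometry TopologicalSpace

noncomputable section

namespace Groth.Agent.GrpdFin19

open GrpdEt19

variable {S : Scheme.{u}} {G : Grpd.GroupoidScheme S} {T : Scheme.{u}} {g : T ⟶ S}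

theorem isClosed_image_snd [UniversallyClosed G.j] (U' : (pullback G.pU g).Opens)
    [IsFinite (U'.ι ≫ pullback.snd G.pU g)] (C : Set ↥(pullback G.pR g)) (hC : IsClosed C)
    (hCU : ∀ z ∈ C, sB G g z ∈ U' ∧ tB G g z ∈ U') : IsClosed (pullback.snd G.pR g '' C) := by
  let q := U'.ι ≫ pullback.snd G.pU g
  let Y := pullback q q
  haveI : IsFinite q := ‹_›
  let π : pullback G.pU G.pU ⟶ S := pullback.fst G.pU G.pU ≫ G.pU
  have hjπ : G.j ≫ π = G.pR := by rw [← Category.assoc, GrpdB.j_fst, G.t_over]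
  let j' : pullback G.pR g ⟶ pullback π g :=
    pullback.lift (pullback.fst G.pR g ≫ G.j) (pullback.snd G.pR g)
      (by rw [Category.assoc, hjπ, pullback.condition])
  have hjsq : IsPullback (pullback.fst G.pR g) j' G.j (pullback.fst π g) := by
    refine IsPullback.of_bot ?_ (pullback.lift_fst _ _ _).symm (IsPullback.of_hasPullback π g)
    rw [pullback.lift_snd, hjπ]
    exact IsPullback.of_hasPullback G.pR g
  haveI : UniversallyClosed j' := MorphismProperty.of_isPullback hjsq ‹UniversallyClosed G.j›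
  have hq₁ : (pullback.fst q q ≫ U'.ι ≫ pullback.fst G.pU g) ≫ G.pU =
      (pullback.fst q q ≫ q) ≫ g := by
    simp only [q, Category.assoc, pullback.condition (f := G.pU) (g := g)]
  have hq₂ : (pullback.snd q q ≫ U'.ι ≫ pullback.fst G.pU g) ≫ G.pU =
      (pullback.fst q q ≫ q) ≫ g := by
    rw [pullback.condition (f := q) (g := q)]; simp only [q, Category.assoc, pullback.condition (f := G.pU) (g := g)]
  let m : Y ⟶ pullback π g := pullback.lift (pullback.lift (pullback.fst q q ≫ U'.ι ≫ pullback.fst G.pU g)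
    (pullback.snd q q ≫ U'.ι ≫ pullback.fst G.pU g) (hq₁.trans hq₂.symm)) (pullback.fst q q ≫ q)
    (by rw [← Category.assoc, pullback.lift_fst]; exact hq₁)
  have hm : m ≫ pullback.snd π g = pullback.fst q q ≫ q := pullback.lift_snd _ _ _
  have key : pullback.snd G.pR g '' C = (pullback.fst q q ≫ q) '' (m ⁻¹' (j' '' C)) := by
    refine Set.Subset.antisymm ?_ ?_
    · rintro _ ⟨z, hz, rfl⟩
      let V : (pullback G.pR g).Opens := sB G g ⁻¹ᵁ U' ⊓ tB G g ⁻¹ᵁ U'
      let a : V.toScheme ⟶ U'.toScheme := IsOpenImmersion.lift U'.ι (V.ι ≫ tB G g) (by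
        rintro _ ⟨x, rfl⟩; rw [U'.range_ι]; exact x.2.2)
      let b : V.toScheme ⟶ U'.toScheme := IsOpenImmersion.lift U'.ι (V.ι ≫ sB G g) (by
        rintro _ ⟨x, rfl⟩; rw [U'.range_ι]; exact x.2.1)
      have ha : a ≫ U'.ι = V.ι ≫ tB G g := IsOpenImmersion.lift_fac _ _ _
      have hb : b ≫ U'.ι = V.ι ≫ sB G g := IsOpenImmersion.lift_fac _ _ _
      have haq : a ≫ q = V.ι ≫ pullback.snd G.pR g := by
        rw [show a ≫ q = (a ≫ U'.ι) ≫ pullback.snd G.pU g from (Category.assoc _ _ _).symm, ha,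
          Category.assoc, tB_snd]
      have hbq : b ≫ q = V.ι ≫ pullback.snd G.pR g := by
        rw [show b ≫ q = (b ≫ U'.ι) ≫ pullback.snd G.pU g from (Category.assoc _ _ _).symm, hb,
          Category.assoc, sB_snd]
      let n : V.toScheme ⟶ Y := pullback.lift a b (haq.trans hbq.symm)
      have hnm : n ≫ m = V.ι ≫ j' := by
        apply pullback.hom_ext
        · apply pullback.hom_ext
          · simp only [Category.assoc, m, j', pullback.lift_fst, GrpdB.j_fst, n]
            rw [pullback.lift_fst_assoc, ← Category.assoc, ha, Category.assoc, tB_fst]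
          · simp only [Category.assoc, m, j', pullback.lift_fst, pullback.lift_snd, GrpdB.j_snd, n]
            rw [pullback.lift_snd_assoc, ← Category.assoc, hb, Category.assoc, sB_fst]
        · rw [Category.assoc, hm, Category.assoc, pullback.lift_snd, pullback.lift_fst_assoc, haq]
      have hzV : z ∈ V := hCU z hz
      refine ⟨n ⟨z, hzV⟩, ⟨z, hz, ?_⟩, ?_⟩
      · rw [← Scheme.Hom.comp_apply, hnm, Scheme.Hom.comp_apply]; rfl
      · rw [← Scheme.Hom.comp_apply, pullback.lift_fst_assoc, haq, Scheme.Hom.comp_apply]; rfl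
    · rintro _ ⟨y, ⟨z, hz, hzy⟩, rfl⟩
      refine ⟨z, hz, ?_⟩
      rw [← hm, Scheme.Hom.comp_apply m, ← hzy, ← Scheme.Hom.comp_apply, pullback.lift_snd]
  rw [key]
  exact (pullback.fst q q ≫ q).isClosedMap _ ((j'.isClosedMap _ hC).preimage m.continuous)

/-- If `j` is universally closed, all arrows between the parts can be put into the finite part. -/
theorem exists_parts_eq [UniversallyClosed G.j] [IsSeparated G.pU] [IsSeparated G.pR] {p : S} {u : G.U}
    {t : T} {U' : (pullback G.pU g).Opens} {R' : (pullback G.pR g).Opens} (h : Parts G p u g t U' R') :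
    ∃ (T₀ : Scheme.{u}) (g₀ : T₀ ⟶ S) (t₀ : T₀) (U₀ : (pullback G.pU g₀).Opens) (R₀ : (pullback G.pR g₀).Opens),
      Parts G p u g₀ t₀ U₀ R₀ ∧ (R₀ : Set ↥(pullback G.pR g₀)) =
        ⇑(sB G g₀) ⁻¹' (U₀ : Set _) ∩ ⇑(tB G g₀) ⁻¹' (U₀ : Set _) := by
  haveI := h.objs.fin
  let C : Set ↥(pullback G.pR g) := (⇑(sB G g) ⁻¹' (U' : Set _) ∩ ⇑(tB G g) ⁻¹' (U' : Set _)) \ R'
  have hC : IsClosed C := ((h.objs.isClosed.preimage (sB G g).continuous).inter
    (h.objs.isClosed.preimage (tB G g).continuous)).sdiff R'.2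
  let T₀ : T.Opens := ⟨(pullback.snd G.pR g '' C)ᶜ,
    (isClosed_image_snd U' C hC fun z hz => hz.1).isOpen_compl⟩
  have ht₀ : t ∈ T₀ := by
    rintro ⟨z, ⟨⟨hzs, -⟩, hzR⟩, hzt⟩
    refine hzR ((h.arrs.fib z hzt).2 ?_)
    have := (h.objs.fib (sB G g z) (by rw [← Scheme.Hom.comp_apply, sB_snd]; exact hzt)).1 hzs
    rwa [← Scheme.Hom.comp_apply, sB_fst, Scheme.Hom.comp_apply] at this
  have h₀ := h.restrict T₀ ht₀
  refine ⟨T₀.toScheme, T₀.ι ≫ g, ⟨t, ht₀⟩, _, _, h₀, Set.Subset.antisymm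
    (fun z hz => ⟨h₀.le_s hz, h₀.le_t hz⟩) fun z hz => ?_⟩
  by_contra hzR
  refine (pullback.snd G.pR (T₀.ι ≫ g) z).2 ⟨bcm G.pR T₀.ι rfl z, ⟨⟨?_, ?_⟩, hzR⟩, ?_⟩
  · show sB G g (bcm G.pR T₀.ι rfl z) ∈ U'
    rw [← Scheme.Hom.comp_apply, bcm_sB, Scheme.Hom.comp_apply]
    exact hz.1
  · show tB G g (bcm G.pR T₀.ι rfl z) ∈ U'
    rw [← Scheme.Hom.comp_apply, bcm_tB, Scheme.Hom.comp_apply]
    exact hz.2
  · rw [← Scheme.Hom.comp_apply, bcm_snd]; rfl

end Groth.Agent.GrpdFin19
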