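import Groth.Agent.Lib.GrpdFin19.Orbit
import Groth.Agent.Lib.GrpdEt19.Nbhd
import Groth.Prelude.Def_Hens2
import Mathlib

/-!
# Étale neighbourhoods in the base with finite saturated parts of a groupoid
-/

set_option autoImplicit false
set_option linter.style.haveILetI false
set_option backward.isDefEq.respectTransparency.types false
set_option maxHeartbeats 1000000

universe u

open CategoryTheory CategoryTheory.Limits AlgebraicGeometry TopologicalSpace IsLocalRing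

noncomputable section

namespace Groth.Agent.GrpdFin19

open GrpdEt19

/-- An open of the base change with finite projection and prescribed fibre at a point. -/
structure IsPiece {X S T : Scheme.{u}} (f : X ⟶ S) (g : T ⟶ S) (M : Set X) (t : T)
    (O : (pullback f g).Opens) : Prop where
  fin : IsFinite (O.ι ≫ pullback.snd f g)
  fib : ∀ z, pullback.snd f g z = t → (z ∈ O ↔ pullback.fst f g z ∈ M)

theorem IsPiece.comap {X S T T' : Scheme.{u}} {f : X ⟶ S} {g : T ⟶ S} {g' : T' ⟶ S} {M : Set X} {t : T}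
    {O : (pullback f g).Opens} (h : IsPiece f g M t O) (k : T' ⟶ T) (hk : k ≫ g = g') (t' : T') (ht : k t' = t) :
    IsPiece f g' M t' (bcm f k hk ⁻¹ᵁ O) := by
  refine ⟨?_, fun z hz => ?_⟩
  · haveI := h.fin
    exact MorphismProperty.of_isPullback
      ((isPullback_morphismRestrict (bcm f k hk) O).paste_vert (isPullback_bcm f k hk)) ‹_›
  · show bcm f k hk z ∈ O ↔ _
    rw [h.fib _ (by rw [← Scheme.Hom.comp_apply, bcm_snd, Scheme.Hom.comp_apply, hz, ht]),
      ← Scheme.Hom.comp_apply, bcm_fst]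

theorem IsPiece.isClosed {X S T : Scheme.{u}} {f : X ⟶ S} [IsSeparated f] {g : T ⟶ S} {M : Set X} {t : T}
    {O : (pullback f g).Opens} (h : IsPiece f g M t O) : IsClosed (O : Set ↥(pullback f g)) := by
  haveI := h.fin
  haveI := isClosedImmersion_ι (p := pullback.snd f g) O
  exact O.range_ι ▸ O.ι.isClosedEmbedding.isClosed_range

/-- An elementary étale neighbourhood carrying a piece with prescribed fibre. -/
theorem exists_isPiece {X S : Scheme.{u}} (f : X ⟶ S) [IsSeparated f] [LocallyOfFiniteType f] (p : S)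
    (M : Set X) (hM : M.Finite) (hMp : ∀ x ∈ M, f x = p) (hMq : ∀ x ∈ M, f.QuasiFiniteAt x) :
    ∃ (T : Scheme.{u}) (g : T ⟶ S) (σ : Spec (S.residueField p) ⟶ T) (O : (pullback f g).Opens),
      Etale g ∧ σ ≫ g = S.fromSpecResidueField p ∧ IsPiece f g M (σ (closedPoint (S.residueField p))) O := by
  haveI := hM.to_subtype
  let e := Finite.equivFin M
  obtain ⟨T, g, σ, V, hg, hσ, hV⟩ := Weight.exists_elementary_parts f p (Nat.card M)
    (fun i => (e.symm i).1) (fun i => hMp _ (e.symm i).2) (fun i => hMq _ (e.symm i).2)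
  let t := σ (closedPoint (S.residueField p))
  have hgt : g t = p := by
    show g (σ _) = p
    rw [← Scheme.Hom.comp_apply, hσ]
    exact S.fromSpecResidueField_apply p _
  have hres : Function.Surjective (g.residueFieldMap t) :=
    Weight.residueFieldMap_surjective_of_section g t p hgt σ hσ rfl
  choose hfin v hvV hvx hvu huniq _ using hV
  refine ⟨T, g, σ, ⨆ i, V i, hg, hσ, GrpdEt19.isFinite_iSup _ _ V hfin, fun w hw => ?_⟩
  constructor
  · intro hwO
    obtain ⟨i, hi⟩ := Opens.mem_iSup.1 hwO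
    rw [huniq i w hi hw, hvx i]
    exact (e.symm i).2
  · intro hwM
    obtain ⟨j, hj⟩ : ∃ j, e ⟨_, hwM⟩ = j := ⟨_, rfl⟩
    have hfst : pullback.fst f g w = pullback.fst f g (v j) := by rw [hvx, ← hj, e.symm_apply_apply]
    refine Opens.mem_iSup.2 ⟨j, ?_⟩
    rw [(Weight.pullback_residue_trivial f g (v j) w (by rw [hvu]; exact hres) hfst (by rw [hw, hvu])).1]
    exact hvV _

variable {S : Scheme.{u}} (G : Grpd.GroupoidScheme S) {T : Scheme.{u}} (g : T ⟶ S)

/-- The source after base change. -/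
abbrev sB : pullback G.pR g ⟶ pullback G.pU g :=
  pullback.map G.pR g G.pU g G.s (𝟙 T) (𝟙 S) ((Category.comp_id _).trans G.s_over.symm)
    ((Category.comp_id _).trans (Category.id_comp _).symm)

/-- The target after base change. -/
abbrev tB : pullback G.pR g ⟶ pullback G.pU g :=
  pullback.map G.pR g G.pU g G.t (𝟙 T) (𝟙 S) ((Category.comp_id _).trans G.t_over.symm)
    ((Category.comp_id _).trans (Category.id_comp _).symm)

theorem sB_fst : sB G g ≫ pullback.fst G.pU g = pullback.fst G.pR g ≫ G.s := pullback.lift_fst _ _ _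
theorem tB_fst : tB G g ≫ pullback.fst G.pU g = pullback.fst G.pR g ≫ G.t := pullback.lift_fst _ _ _
theorem sB_snd : sB G g ≫ pullback.snd G.pU g = pullback.snd G.pR g :=
  (pullback.lift_snd _ _ _).trans (Category.comp_id _)
theorem tB_snd : tB G g ≫ pullback.snd G.pU g = pullback.snd G.pR g :=
  (pullback.lift_snd _ _ _).trans (Category.comp_id _)

variable {G g}

theorem bcm_sB {T' : Scheme.{u}} {g' : T' ⟶ S} (k : T' ⟶ T) (hk : k ≫ g = g') :
    bcm G.pR k hk ≫ sB G g = sB G g' ≫ bcm G.pU k hk := by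
  apply pullback.hom_ext
  · rw [Category.assoc, Category.assoc, bcm_fst, sB_fst, bcm_fst_assoc, sB_fst]
  · rw [Category.assoc, Category.assoc, bcm_snd, sB_snd, bcm_snd, ← Category.assoc, sB_snd]

theorem bcm_tB {T' : Scheme.{u}} {g' : T' ⟶ S} (k : T' ⟶ T) (hk : k ≫ g = g') :
    bcm G.pR k hk ≫ tB G g = tB G g' ≫ bcm G.pU k hk := by
  apply pullback.hom_ext
  · rw [Category.assoc, Category.assoc, bcm_fst, tB_fst, bcm_fst_assoc, tB_fst]
  · rw [Category.assoc, Category.assoc, bcm_snd, tB_snd, bcm_snd, ← Category.assoc, tB_snd]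

variable (G)

/-- Finite parts of objects and arrows over a neighbourhood, arrows going between the objects. -/
structure Parts (p : S) (u : G.U) {T : Scheme.{u}} (g : T ⟶ S) (t : T) (U' : (pullback G.pU g).Opens)
    (R' : (pullback G.pR g).Opens) : Prop where
  nbhd : Hens2.IsEtaleNbhd g t p
  objs : IsPiece G.pU g (G.t '' (G.s ⁻¹' {u})) t U'
  arrs : IsPiece G.pR g (G.s ⁻¹' (G.t '' (G.s ⁻¹' {u}))) t R'
  le_s : R' ≤ sB G g ⁻¹ᵁ U'
  le_t : R' ≤ tB G g ⁻¹ᵁ U'

variable {G}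

/-- Shrinking the neighbourhood. -/
theorem Parts.restrict {p : S} {u : G.U} {t : T} {U' : (pullback G.pU g).Opens}
    {R' : (pullback G.pR g).Opens} (h : Parts G p u g t U' R') (T₀ : T.Opens) (ht : t ∈ T₀) :
    Parts G p u (T₀.ι ≫ g) ⟨t, ht⟩ (bcm G.pU T₀.ι rfl ⁻¹ᵁ U') (bcm G.pR T₀.ι rfl ⁻¹ᵁ R') := by
  haveI := h.nbhd.etale
  refine ⟨⟨inferInstance, h.nbhd.base_eq, ?_⟩, h.objs.comap _ _ _ rfl, h.arrs.comap _ _ _ rfl, ?_, ?_⟩
  · rw [Scheme.residueFieldMap_comp]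
    exact (ConcreteCategory.bijective_of_isIso (T₀.ι.residueFieldMap ⟨t, ht⟩)).comp h.nbhd.residue_bijective
  · intro z hz
    show bcm G.pU T₀.ι rfl (sB G (T₀.ι ≫ g) z) ∈ U'
    rw [← Scheme.Hom.comp_apply, ← bcm_sB, Scheme.Hom.comp_apply]
    exact h.le_s hz
  · intro z hz
    show bcm G.pU T₀.ι rfl (tB G (T₀.ι ≫ g) z) ∈ U'
    rw [← Scheme.Hom.comp_apply, ← bcm_tB, Scheme.Hom.comp_apply]
    exact h.le_t hz

variable (G)

/-- Finite parts exist near an isolated point with finitely many arrows. -/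
theorem exists_parts [LocallyOfFiniteType G.pU] [IsSeparated G.pU] [IsSeparated G.pR]
    [LocallyOfFiniteType G.s] [Flat G.t] [LocallyOfFinitePresentation G.t] (p : S) (u : G.U) (hu : G.pU u = p)
    (hqf : ∃ V : G.U.Opens, u ∈ V ∧ ∀ x ∈ V, G.pU x = p → x = u) (hfin : (G.s ⁻¹' {u}).Finite) :
    ∃ (T : Scheme.{u}) (g : T ⟶ S) (t : T) (U' : (pullback G.pU g).Opens) (R' : (pullback G.pR g).Opens),
      Parts G p u g t U' R' := by
  obtain ⟨hOf, hsOf, hO, hsO, -⟩ := orbit_props p u hu hqf hfin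
  haveI : LocallyOfFiniteType G.pR := by rw [← G.s_over]; infer_instance
  obtain ⟨T₁, g₁, σ₁, O₁, hg₁, hσ₁, hO₁⟩ := exists_isPiece G.pU p _ hOf (fun x hx => (hO x hx).1)
    (fun x hx => (hO x hx).2)
  obtain ⟨T₂, g₂, σ₂, O₂, hg₂, hσ₂, hO₂⟩ := exists_isPiece G.pR p _ hsOf (fun r hr => (hsO r hr).1)
    (fun r hr => (hsO r hr).2.1)
  let g := pullback.fst g₁ g₂ ≫ g₁
  let σ := pullback.lift σ₁ σ₂ (hσ₁.trans hσ₂.symm)
  let t := σ (closedPoint (S.residueField p))
  have hσ : σ ≫ g = S.fromSpecResidueField p := by rw [pullback.lift_fst_assoc, hσ₁]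
  have hgt : g t = p := by
    show g (σ _) = p
    rw [← Scheme.Hom.comp_apply, hσ]
    exact S.fromSpecResidueField_apply p _
  have hres : Function.Surjective (g.residueFieldMap t) :=
    Weight.residueFieldMap_surjective_of_section g t p hgt σ hσ rfl
  haveI : Etale g := inferInstanceAs (Etale (pullback.fst g₁ g₂ ≫ g₁))
  have hU := hO₁.comap (g' := g) (pullback.fst g₁ g₂) rfl t (by
    show pullback.fst g₁ g₂ (σ _) = _
    rw [← Scheme.Hom.comp_apply, pullback.lift_fst])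
  have hR := hO₂.comap (g' := g) (pullback.snd g₁ g₂) pullback.condition.symm t (by
    show pullback.snd g₁ g₂ (σ _) = _
    rw [← Scheme.Hom.comp_apply, pullback.lift_snd])
  set U' := bcm G.pU (pullback.fst g₁ g₂) (rfl : _ = g) ⁻¹ᵁ O₁
  set R₀ := bcm G.pR (pullback.snd g₁ g₂) (pullback.condition.symm : _ = g) ⁻¹ᵁ O₂
  haveI := hR.fin
  let T₀ := fibreLocus (pullback.snd G.pR g) R₀ (sB G g ⁻¹ᵁ U' ⊓ tB G g ⁻¹ᵁ U')
  have ht₀ : t ∈ T₀ := (mem_fibreLocus t).2 fun z hz hzt => by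
    have hz' := (hR.fib z hzt).1 hz
    refine ⟨(hU.fib (sB G g z) ?_).2 ?_, (hU.fib (tB G g z) ?_).2 ?_⟩
    · rw [← Scheme.Hom.comp_apply, sB_snd]; exact hzt
    · rw [← Scheme.Hom.comp_apply, sB_fst, Scheme.Hom.comp_apply]; exact hz'
    · rw [← Scheme.Hom.comp_apply, tB_snd]; exact hzt
    · rw [← Scheme.Hom.comp_apply, tB_fst, Scheme.Hom.comp_apply]; exact (hsO _ hz').2.2
  have hle : ∀ z, z ∈ bcm G.pR T₀.ι (rfl : _ = T₀.ι ≫ g) ⁻¹ᵁ R₀ →
      bcm G.pR T₀.ι (rfl : _ = T₀.ι ≫ g) z ∈ (sB G g ⁻¹ᵁ U' ⊓ tB G g ⁻¹ᵁ U' : (pullback G.pR g).Opens) :=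
    fun z hz => (mem_fibreLocus _).1 ((pullback.snd G.pR (T₀.ι ≫ g)) z).2 _ hz (by
      rw [← Scheme.Hom.comp_apply, bcm_snd]; rfl)
  refine ⟨T₀.toScheme, T₀.ι ≫ g, ⟨t, ht₀⟩, _, _, ⟨inferInstance, hgt, ?_⟩, hU.comap T₀.ι rfl ⟨t, ht₀⟩ rfl,
    hR.comap T₀.ι rfl ⟨t, ht₀⟩ rfl, fun z hz => ?_, fun z hz => ?_⟩
  · rw [Scheme.residueFieldMap_comp]
    exact (ConcreteCategory.bijective_of_isIso (T₀.ι.residueFieldMap ⟨t, ht₀⟩)).comp
      ⟨(g.residueFieldMap t).hom.injective, hres⟩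
  · show bcm G.pU T₀.ι rfl (sB G (T₀.ι ≫ g) z) ∈ U'
    rw [← Scheme.Hom.comp_apply, ← bcm_sB, Scheme.Hom.comp_apply]
    exact (hle z hz).1
  · show bcm G.pU T₀.ι rfl (tB G (T₀.ι ≫ g) z) ∈ U'
    rw [← Scheme.Hom.comp_apply, ← bcm_tB, Scheme.Hom.comp_apply]
    exact (hle z hz).2

variable {G}

/-- The point over `u` and the two descriptions of the fibres. -/
theorem Parts.fibres [LocallyOfFiniteType G.pU] [LocallyOfFiniteType G.s] [Flat G.t]
    [LocallyOfFinitePresentation G.t] {p : S} {u : G.U} {t : T} {U' : (pullback G.pU g).Opens}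
    {R' : (pullback G.pR g).Opens} (h : Parts G p u g t U' R') (hu : G.pU u = p)
    (hqf : ∃ V : G.U.Opens, u ∈ V ∧ ∀ x ∈ V, G.pU x = p → x = u) (hfin : (G.s ⁻¹' {u}).Finite) :
    (∃ u', u' ∈ U' ∧ pullback.fst G.pU g u' = u ∧ pullback.snd G.pU g u' = t) ∧
    (∀ u', u' ∈ U' → pullback.fst G.pU g u' = u → pullback.snd G.pU g u' = t →
      {x | x ∈ U' ∧ pullback.snd G.pU g x = t} = ⇑(tB G g) '' (⇑(sB G g) ⁻¹' {u'})) ∧
    {r | r ∈ R' ∧ pullback.snd G.pR g r = t} = ⇑(sB G g) ⁻¹' {x | x ∈ U' ∧ pullback.snd G.pU g x = t} := by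
  obtain ⟨-, -, hO, hsO, huO⟩ := orbit_props p u hu hqf hfin
  have hgt : g t = p := h.nbhd.base_eq
  have hres : Function.Surjective (g.residueFieldMap t) := h.nbhd.residue_bijective.2
  have euU : ∀ a b : ↥(pullback G.pU g), pullback.snd G.pU g a = t → pullback.snd G.pU g b = t →
      pullback.fst G.pU g a = pullback.fst G.pU g b → a = b := fun a b ha hb e =>
    (Weight.pullback_residue_trivial G.pU g b a (by rw [hb]; exact hres) e (ha.trans hb.symm)).1
  refine ⟨?_, fun u' hu'U hu'1 hu'2 => Set.ext fun x => ⟨?_, ?_⟩, Set.ext fun r => ⟨?_, ?_⟩⟩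
  · obtain ⟨u', h1, h2⟩ := Scheme.Pullback.exists_preimage_pullback (f := G.pU) (g := g) u t (hu.trans hgt.symm)
    exact ⟨u', (h.objs.fib u' h2).2 (by rw [h1]; exact huO), h1, h2⟩
  · rintro ⟨hxU, hxt⟩
    obtain ⟨r, hr, hrx⟩ := (h.objs.fib x hxt).1 hxU
    obtain ⟨z, hz1, hz2⟩ := Scheme.Pullback.exists_preimage_pullback (f := G.pR) (g := g) r t (by
      rw [hgt, (hsO r (by rw [show G.s r = u from hr]; exact huO)).1])
    refine ⟨z, euU _ _ ?_ hu'2 ?_, euU _ _ ?_ hxt ?_⟩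
    · rw [← Scheme.Hom.comp_apply, sB_snd]; exact hz2
    · rw [← Scheme.Hom.comp_apply, sB_fst, Scheme.Hom.comp_apply, hz1, hu'1]; exact hr
    · rw [← Scheme.Hom.comp_apply, tB_snd]; exact hz2
    · rw [← Scheme.Hom.comp_apply, tB_fst, Scheme.Hom.comp_apply, hz1, hrx]
  · rintro ⟨z, hz, rfl⟩
    have hzt : pullback.snd G.pR g z = t := by
      rw [← sB_snd G g, Scheme.Hom.comp_apply, Set.mem_singleton_iff.1 hz, hu'2]
    have hs : G.s (pullback.fst G.pR g z) = u := by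
      rw [← Scheme.Hom.comp_apply, ← sB_fst, Scheme.Hom.comp_apply, Set.mem_singleton_iff.1 hz, hu'1]
    have hzU : pullback.snd G.pU g (tB G g z) = t := by rw [← Scheme.Hom.comp_apply, tB_snd]; exact hzt
    refine ⟨(h.objs.fib _ hzU).2 ?_, hzU⟩
    rw [← Scheme.Hom.comp_apply, tB_fst, Scheme.Hom.comp_apply]
    exact ⟨_, hs, rfl⟩
  · rintro ⟨hrR, hrt⟩
    exact ⟨h.le_s hrR, by rw [← Scheme.Hom.comp_apply, sB_snd]; exact hrt⟩
  · rintro ⟨hrU, hrt⟩
    rw [← Scheme.Hom.comp_apply, sB_snd] at hrt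
    refine ⟨(h.arrs.fib r hrt).2 ?_, hrt⟩
    have := (h.objs.fib (sB G g r) (by rw [← Scheme.Hom.comp_apply, sB_snd]; exact hrt)).1 hrU
    rwa [← Scheme.Hom.comp_apply, sB_fst, Scheme.Hom.comp_apply] at this

end Groth.Agent.GrpdFin19
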