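import Groth.Agent.Lib.GrpdEt19.Main
import Mathlib

/-!
# The orbit of an isolated point with finitely many arrows
-/

set_option autoImplicit false
set_option linter.style.haveILetI false
set_option backward.isDefEq.respectTransparency.types false

universe u

open CategoryTheory CategoryTheory.Limits AlgebraicGeometry TopologicalSpace

noncomputable section

namespace Groth.Agent.GrpdFin19

open GrpdB

theorem quasiFiniteAt_of_isolated {X Y : Scheme.{u}} (f : X ⟶ Y) [LocallyOfFiniteType f] (x : X) (N : X.Opens)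
    (hx : x ∈ N) (h : ∀ z ∈ N, f z = f x → z = x) : f.QuasiFiniteAt x := by
  rw [Scheme.Hom.quasiFiniteAt_iff_isOpen_singleton_asFiber]
  have e : ({f.asFiber x} : Set (f.fiber (f x))) = f.fiberι (f x) ⁻¹' N := by
    ext z
    constructor
    · rintro rfl
      show f.fiberι (f x) (f.asFiber x) ∈ N
      rw [f.fiberι_asFiber]; exact hx
    · intro hz
      refine (f.fiberι (f x)).isEmbedding.injective ?_
      rw [f.fiberι_asFiber]
      have hm : f.fiberι (f x) z ∈ Set.range (f.fiberι (f x)) := ⟨z, rfl⟩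
      rw [f.range_fiberι] at hm
      exact h _ hz hm
  rw [e]
  exact N.2.preimage (f.fiberι (f x)).continuous

theorem finite_fiber {X Y : Scheme.{u}} (f : X ⟶ Y) (y : Y) (h : (f ⁻¹' {y}).Finite) :
    Finite (f.fiber y) := by
  haveI := h.to_subtype
  refine Finite.of_injective (fun z => (⟨f.fiberι y z, ?_⟩ : f ⁻¹' {y})) fun a b hab =>
    (f.fiberι y).isEmbedding.injective (congrArg Subtype.val hab)
  rw [← f.range_fiberι]
  exact ⟨z, rfl⟩

theorem exists_isolating {X Y : Scheme.{u}} (f : X ⟶ Y) [LocallyOfFiniteType f] (y : Y)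
    (h : (f ⁻¹' {y}).Finite) (x : X) (hx : f x = y) :
    ∃ N : X.Opens, x ∈ N ∧ ∀ z ∈ N, f z = y → z = x := by
  subst hx
  haveI := finite_fiber f _ h
  haveI : LocallyOfFiniteType (f.fiberToSpecResidueField (f x)) :=
    inferInstanceAs (LocallyOfFiniteType (pullback.snd f _))
  haveI : JacobsonSpace (f.fiber (f x)) :=
    LocallyOfFiniteType.jacobsonSpace (f.fiberToSpecResidueField (f x))
  obtain ⟨N, hN, hNe⟩ := (f.fiberι (f x)).isEmbedding.isInducing.isOpen_iff.1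
    (isOpen_discrete ({f.asFiber x} : Set (f.fiber (f x))))
  refine ⟨⟨N, hN⟩, ?_, fun z hz hzy => ?_⟩
  · have : f.asFiber x ∈ f.fiberι (f x) ⁻¹' N := by rw [hNe]; rfl
    rw [Set.mem_preimage, f.fiberι_asFiber] at this
    exact this
  · have hm : z ∈ Set.range (f.fiberι (f x)) := by rw [f.range_fiberι]; exact hzy
    obtain ⟨z', rfl⟩ := hm
    have : z' ∈ ({f.asFiber x} : Set (f.fiber (f x))) := by rw [← hNe]; exact hz
    rw [Set.mem_singleton_iff.1 this, f.fiberι_asFiber]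

variable {S : Scheme.{u}} {G : Grpd.GroupoidScheme S}

/-- The fibre of the source over the target of an arrow out of a point with finite fibre is finite. -/
theorem finite_preimage_t [LocallyOfFiniteType G.s] (u : G.U) (hfin : (G.s ⁻¹' {u}).Finite) (r₀ : G.R)
    (hr₀ : G.s r₀ = u) : (G.s ⁻¹' {G.t r₀}).Finite := by
  let k : Spec (CommRingCat.of (G.R.residueField r₀)) ⟶ G.R := G.R.fromSpecResidueField r₀
  let τ : Spec (CommRingCat.of (G.R.residueField r₀)) := IsLocalRing.closedPoint _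
  have hk : k τ = r₀ := Scheme.fromSpecResidueField_apply _ _
  obtain ⟨ψ, hψ⟩ := GrpdEt19.exists_factor (k ≫ G.s) τ u (by rw [Scheme.Hom.comp_apply, hk, hr₀])
  haveI := finite_fiber G.s u hfin
  haveI : LocallyQuasiFinite (pullback.snd G.s (G.U.fromSpecResidueField u)) := by
    refine LocallyQuasiFinite.of_finite_preimage_singleton _ fun _ => ?_
    haveI : Finite ↥(pullback G.s (G.U.fromSpecResidueField u)) := inferInstanceAs (Finite (G.s.fiber u))
    exact Set.toFinite _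
  haveI : QuasiCompact (pullback.snd G.s (G.U.fromSpecResidueField u)) := by
    haveI : Finite ↥(pullback G.s (G.U.fromSpecResidueField u)) := inferInstanceAs (Finite (G.s.fiber u))
    exact (quasiCompact_iff_compactSpace _).2 inferInstance
  haveI : LocallyQuasiFinite (pullback.snd G.s (k ≫ G.s)) :=
    MorphismProperty.of_isPullback (GrpdEt19.isPullback_bcm G.s (Spec.map ψ) hψ.symm) inferInstance
  haveI : QuasiCompact (pullback.snd G.s (k ≫ G.s)) :=
    MorphismProperty.of_isPullback (GrpdEt19.isPullback_bcm G.s (Spec.map ψ) hψ.symm) inferInstance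
  have hF : (Set.univ : Set ↥(pullback G.s (k ≫ G.s))).Finite := by
    refine ((pullback.snd G.s (k ≫ G.s)).finite_preimage_singleton τ).subset fun z _ => ?_
    exact Set.mem_singleton_iff.2 (Subsingleton.elim _ _)
  haveI := GrpdEt19.isIso_tr k (rfl : k ≫ G.s = k ≫ G.s) (rfl : k ≫ G.t = k ≫ G.t)
  refine ((hF.image (inv (GrpdEt19.tr k (rfl : k ≫ G.s = k ≫ G.s) (rfl : k ≫ G.t = k ≫ G.t)) ≫
    pullback.fst G.s (k ≫ G.t)))).subset fun r hr => ?_
  obtain ⟨z, hz, -⟩ := Scheme.Pullback.exists_preimage_pullback (f := G.s) (g := k ≫ G.t) r τ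
    (by rw [Scheme.Hom.comp_apply, hk]; exact hr)
  refine ⟨GrpdEt19.tr k (rfl : k ≫ G.s = k ≫ G.s) (rfl : k ≫ G.t = k ≫ G.t) z, trivial, ?_⟩
  rw [← Scheme.Hom.comp_apply, IsIso.hom_inv_id_assoc, hz]

/-- Properties of the orbit of an isolated point with finitely many arrows out of it. -/
theorem orbit_props [LocallyOfFiniteType G.pU] [LocallyOfFiniteType G.s] [Flat G.t]
    [LocallyOfFinitePresentation G.t] (p : S) (u : G.U) (hu : G.pU u = p)
    (hqf : ∃ V : G.U.Opens, u ∈ V ∧ ∀ x ∈ V, G.pU x = p → x = u) (hfin : (G.s ⁻¹' {u}).Finite) :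
    let O := G.t '' (G.s ⁻¹' {u})
    O.Finite ∧ (G.s ⁻¹' O).Finite ∧ (∀ x ∈ O, G.pU x = p ∧ G.pU.QuasiFiniteAt x) ∧
      (∀ r, G.s r ∈ O → G.pR r = p ∧ G.pR.QuasiFiniteAt r ∧ G.t r ∈ O) ∧ u ∈ O := by
  intro O
  haveI : LocallyOfFiniteType G.pR := by rw [← G.s_over]; infer_instance
  have hp : ∀ r, G.pR r = G.pU (G.s r) := fun r => by rw [← G.s_over, Scheme.Hom.comp_apply]
  have hp' : ∀ r, G.pR r = G.pU (G.t r) := fun r => by rw [← G.t_over, Scheme.Hom.comp_apply]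
  have hO : ∀ x ∈ O, G.pU x = p := by
    rintro _ ⟨r, hr, rfl⟩
    rw [← hp', hp, show G.s r = u from hr, hu]
  obtain ⟨V, huV, hV⟩ := hqf
  have hiso : ∀ x ∈ O, ∃ N : G.U.Opens, x ∈ N ∧ ∀ z ∈ N, G.pU z = p → z = x := by
    rintro _ ⟨r, hr, rfl⟩
    obtain ⟨N, hrN, hN⟩ := exists_isolating G.s u hfin r hr
    refine ⟨⟨G.t '' ((G.s ⁻¹ᵁ V ⊓ N : G.R.Opens) : Set G.R), G.t.isOpenMap _ (G.s ⁻¹ᵁ V ⊓ N).2⟩,
      ⟨r, ⟨show G.s r ∈ V from (show G.s r = u from hr) ▸ huV, hrN⟩, rfl⟩, ?_⟩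
    rintro _ ⟨y, ⟨hy1, hy2⟩, rfl⟩ hy
    rw [hN y hy2 (hV _ hy1 (by rw [← hp, hp']; exact hy))]
  have hsO : (G.s ⁻¹' O).Finite := by
    refine (Set.Finite.biUnion (hfin.image G.t) (t := fun x => G.s ⁻¹' {x}) ?_).subset fun r hr =>
      Set.mem_biUnion hr rfl
    rintro _ ⟨r, hr, rfl⟩
    exact finite_preimage_t u hfin r hr
  refine ⟨hfin.image _, hsO, fun x hx => ?_, fun r hr => ?_, ⟨G.e u, GrpdB.s_e u, GrpdB.t_e u⟩⟩
  · obtain ⟨N, hxN, hN⟩ := hiso x hx
    exact ⟨hO x hx, quasiFiniteAt_of_isolated _ _ N hxN fun z hz hzx => hN z hz (hzx.trans (hO x hx))⟩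
  · have hrp : G.pR r = p := by rw [hp, hO _ hr]
    obtain ⟨N, hxN, hN⟩ := hiso _ hr
    obtain ⟨N', hrN', hN'⟩ := exists_isolating G.s (G.s r) (hsO.subset fun z hz => by
      show G.s z ∈ O
      rw [show G.s z = G.s r from hz]; exact hr) r rfl
    refine ⟨hrp, quasiFiniteAt_of_isolated _ _ (G.s ⁻¹ᵁ N ⊓ N') ⟨hxN, hrN'⟩ fun z hz hzr =>
      hN' z hz.2 (hN _ hz.1 (by rw [← hp, hzr, hrp])), ?_⟩
    obtain ⟨r₀, hr₀, he⟩ := hr
    obtain ⟨z, hz1, hz2⟩ := exists_comp_point r r₀ he.symm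
    exact ⟨z, hz2.trans hr₀, hz1⟩

end Groth.Agent.GrpdFin19
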